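import Cfsg.Agent.Lib.Comp.J4m.Base
import Cfsg.Agent.Lib.Comp.TMult3

set_option maxRecDepth 100000
set_option Elab.async false

namespace Cfsg.Lib.Comp.J4u

universe u

def iv : ℕ → ℕ := (fun x => look (nat_lit 0xffef7cefae78df6d74cf2c70beeb6caeaa689e69648e28607de75c6da6585d65544d24503ce34c2ca2481c5184083040) 6 x)

noncomputable def R : List (List ℕ × ℕ) := (apd [([1],1),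
 ([2],2),
 ([1,2],22),
 ([1,3,1,2],11),
 ([1,3,1,3,1,2,1,2],4),
 ([1,2,1,2,1,3,1,2,1,3,1,2,1,3],3),
 ([1,2,1,2,1,3,1,2,1,2,1,3,1,2,1,2,1,3,1,2,1,3,1,3,1,2,1,3,1,3,1,2,1,3,1,3],0),
 ([2,3],0),
 ([4],1),
 ([4,2,4,3],0),
 ([4,1,2,1,3,1,2,1,2,1,2,1,2,1,3,1,2,1,2,1,2,1,2,1,3,1,2,1,3,1,4,1,2,1,3,1,2,1,3,1,3,1,3,1,3,1,2,1,3,1,3,1,3,1,3,1,2,1,3,1],0),
 ((apd [4,1,2,1,2,1,3,1,3,1,4,1,2,1,2,1,3,1,3,1,2,1,2,1,3,1,2,1,3,1,2,1,2,1,2,1,3,1,2,1,3,1,4,1,2,1,3,1,2,1,3,1,3,1,3,1,2,1,3,1]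
 [2,1,3,1,3]),0),
 ([5,6],0),
 ([6,1,2],0),
 ([7],1),
 ([7,6,4,5],0),
 ([8],1),
 ([8,6,7,5],0),
 ([9],1),
 ([9,6,8,5],0),
 ([10],1),
 ([10,6,9,5],0),
 ([11],1),
 ([11,6,10,5],0),
 ([12],1),
 ([12,6,11,5],0),
 ([13],1),
 ([13,6,12,5],0),
 ([14],1),
 ([14,6,13,5],0),
 ([15],1),
 ([15,6,14,5],0),
 ([16],1),
 ([16,6,15,5],0),
 ([6,16,5,4,8,10,11,12,16],0),
 ([5],22),
 ([4,7],1),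
 ([4,8],1),
 ([4,9],1),
 ([4,10],1)]
 (apd [([4,11],1),
 ([4,12],1),
 ([4,13],1),
 ([4,14],1),
 ([4,15],1),
 ([4,16],1),
 ([7,8],1),
 ([7,9],1),
 ([7,10],1),
 ([7,11],1),
 ([7,12],1),
 ([7,13],1),
 ([7,14],1),
 ([7,15],1),
 ([7,16],1),
 ([8,9],1),
 ([8,10],1),
 ([8,11],1),
 ([8,12],1),
 ([8,13],1),
 ([8,14],1),
 ([8,15],1),
 ([8,16],1),
 ([9,10],1),
 ([9,11],1),
 ([9,12],1),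
 ([9,13],1),
 ([9,14],1),
 ([9,15],1),
 ([9,16],1),
 ([10,11],1),
 ([10,12],1),
 ([10,13],1),
 ([10,14],1),
 ([10,15],1),
 ([10,16],1),
 ([11,12],1),
 ([11,13],1),
 ([11,14],1),
 ([11,15],1)]
 [([11,16],1),
 ([12,13],1),
 ([12,14],1),
 ([12,15],1),
 ([12,16],1),
 ([13,14],1),
 ([13,15],1),
 ([13,16],1),
 ([14,15],1),
 ([14,16],1),
 ([15,16],1),
 ([1,4,1,7,9,10,11,15,16],0),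
 ([1,7,1,4,10,11,14,16],0),
 ([1,8,1,4,8,9,10,15,16],0),
 ([1,9,1,9,11,15,16],0),
 ([1,10,1,9,10,11,14,16],0),
 ([1,11,1,4,7,10,14,16],0),
 ([1,12,1,8,9,10,13,14,15,16],0),
 ([1,13,1,4,7,9,10,11,13,15,16],0),
 ([1,14,1,4,8,12,13],0),
 ([1,15,1,4,8,11,12,13,14,16],0),
 ([1,16,1,7,8,10,12,13,15,16],0),
 ([3,7,2,4,7,8,10,15,16],0),
 ([3,8,2,4,7,8,9,12],0),
 ([3,9,2,4,8,11],0),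
 ([3,10,2,4,8,15,16],0),
 ([3,11,2,4,7,10,12,15,16],0),
 ([3,12,2,4,8,9,12,14,15],0),
 ([3,13,2,4,7,14],0),
 ([3,14,2,7,9,13,14],0),
 ([3,15,2,4,7,8,9,10,11,13,14,15,16],0),
 ([3,16,2,4,9,10,12,13,14],0)]))

def L : List ℕ := [1,2,3,4,5,6,7,8,9,10,11,12,13,14,15,16]

noncomputable def V : List (List ℕ) := [[],
 [1],
 [2],
 [3],
 [4],
 [1,2],
 [3,1],
 [3,1,4,1,2],
 [3,1,3,1,4,1,2,1,2],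
 [3,1,3,1,3,1,4,1,2,1,2,1,2],
 [3,1,3,1,3,1,3,1,4,1,2,1,2,1,2,1,2],
 [3,1,3,1,3,1,3,1,3,1,4,1,2,1,2,1,2,1,2,1,2],
 [3,1,3,1,3,1,3,1,3,1,3,1,4,1,2,1,2,1,2,1,2,1,2,1,2],
 [3,1,3,1,3,1,3,1,3,1,3,1,3,1,4,1,2,1,2,1,2,1,2,1,2,1,2,1,2],
 [3,1,3,1,3,1,3,1,3,1,3,1,3,1,3,1,4,1,2,1,2,1,2,1,2,1,2,1,2,1,2,1,2],
 [3,1,3,1,3,1,3,1,3,1,3,1,3,1,3,1,3,1,4,1,2,1,2,1,2,1,2,1,2,1,2,1,2,1,2,1,2],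
 [3,1,3,1,3,1,3,1,3,1,3,1,3,1,3,1,3,1,3,1,4,1,2,1,2,1,2,1,2,1,2,1,2,1,2,1,2,1,2,1,2]]

end Cfsg.Lib.Comp.J4u
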