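import Cfsg.Agent.S2038
import Cfsg.Agent.Lib.Comp.J4u.Mu2
import Cfsg.Agent.Lib.Comp.J4.Main
import Cfsg.Agent.Lib.Comp.Ext

set_option maxRecDepth 100000
set_option Elab.async false

namespace Cfsg.Lib.Comp.J4u

universe u

open Cfsg.Lib.Comp.J4 (gam gm LN M)

noncomputable def RX : List (List ℕ × ℕ) := R.map fun r => (frd J4.iv (xpd V r.1), r.2)

theorem rx : Cons.{0} J4.iv J4m.R RX := cons_of_ord J4s.ord J4m.nets_iv J4m.nets_rel J4m.lb
  (rels_of_relsB (k := 11) J4m.nets_ok (by norm_num) (by decide +kernel)) (by decide +kernel)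

noncomputable def g : ℕ → Spor.J4 := sv gm V

theorem g_ok : IvOK g iv ∧ Rels g R :=
  SvOK.ok (R := RX) (by decide +kernel) J4.gm_ok.1 (rx _ _ J4.gm_ok.1 (J4.of_rq J4.gm_ok.2))

theorem g_m : ∀ x ∈ J4.L, g x = gm x := by
  simp only [J4.L, List.forall_mem_cons]
  exact ⟨ev_single _ _, ev_single _ _, ev_single _ _, ev_single _ _, by simp⟩

theorem g_n : ∀ x ∈ [1,2,3,5,6], g x ∈ cl gam LN := fun x hx =>
  have h : ∀ y ∈ nth [] V x, y ∈ LN := by revert x; decide +kernel
  ev_mem fun y hy => J4.gm_n y (h y hy) ▸ mem_cl (h y hy)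

theorem n_ord : Ord.{0} iv (J4.RN ++ [([6, 1, 2], 0)]) [1,2,3,5,6] 244823040 :=
  J4e.n_ord.ext (D := [(6, [], [1, 2])]) (by decide +kernel)

theorem m_ord : Ord.{0} iv J4m.R J4.L 501397585920 := J4s.ord.ext (D := []) (by decide +kernel)

theorem lb_n : 244823040 ≤ 1 * Nat.card (cl g [1,2,3,5,6]) := by
  rw [one_mul, ← J4.n_card]
  refine Subgroup.card_le_of_le (cl_le.2 fun x hx => ?_)
  rw [← J4.gm_n x hx, ← g_m x (by revert x; decide)]
  exact mem_cl (by revert x; decide)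

theorem g_cl : cl g J4.L = M := cl_congr2 g_m

theorem lifts : Lifts (cl gam LN) := by
  obtain ⟨e⟩ := J4.n_iso
  obtain ⟨f⟩ := J4p.perm
  have := J4.n_simple
  refine lifts_of ⟨(IsSimpleGroup.eq_bot_or_eq_top_of_normal _ inferInstance).resolve_left fun h => ?_⟩
    (Mult.mult_congr_left Agent.S2038.result (f.trans e))
  have h := (commutator_eq_bot_iff _).1 h
  have := (Group.is_simple_iff_prime_card (α := cl gam LN)).1 J4.n_simple
  rw [J4.n_card] at this
  norm_num at this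

theorem mb2 : MB Spor.J4 2 1 :=
  mb_sub (w := 11) (n := 112) (La := L) (ix := nth 0 [0,0,0,0,8,0,0,14,16,18,20,22,24,26,28,30,32,0,0,0,0,0,0,0,0,0,0,0,0,0,0,0,0,0,0,0,0,0,0,0,0,0,0,0,0,0,0,0,0,0,0,0,0,0,0,0,0,0,0,0,0,0,0,0]) (by norm_num) (by norm_num) g_ok.1 g_ok.2 (by decide +kernel) lifts g_n (J := [0,1,2,3,4,5,6,7,12,13,35]) (by decide +kernel)
    (TStep.trans (TStep.trans (TStep.trans (TStep.trans (TStep.trans (TStep.repar (k' := 101) (by norm_num) (by norm_num) (by decide +kernel) (by decide +kernel) Mu1_b)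
    (TStep.repar (k' := 90) (by norm_num) (by norm_num) (by decide +kernel) (by decide +kernel) Mu2_b))
    (TStep.enum0 (by norm_num) (by norm_num) Mu3_0 (Gs := Mu3G) (by decide +kernel)))
    (TStep.repar (k' := 24) (by norm_num) (by norm_num) (by decide +kernel) (by decide +kernel) Mu4_b))
    (TStep.enum (by norm_num) (by norm_num) Mu5_0 (I := [0,1,2,3,4,5,6,7,12,13,35]) (by decide +kernel) (by decide +kernel) n_ord (c := 1) lb_n (Gs := Mu5G) (by decide +kernel)))
    (TStep.repar (k' := 0) (by norm_num) (by norm_num) (by decide +kernel) (by decide +kernel) Mu6_b))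
    (L := J4.L) (I := [0,1,2,3,4,5,6,7,8,9,10,11]) (by decide +kernel) (by decide +kernel) m_ord (by rw [g_cl, J4.m_card]) (by rw [g_cl, J4.card_all.2.2]; norm_num)

open Cfsg.Lib.MatB.F2 J4 in
theorem eJ_ok : slpM 112 mR mI eD [m1, m2, m3, m4] (fun l => cnd (cubeB 112 mR mI (nth mI l 11) (nth mI l 157) (nth mI l 0) 11 0)
    (cnd (Nat.beq (pwM 112 mR mI (nth mI l 44) 2) mI) (cnd (Nat.beq (pwM 112 mR mI (mu 112 mR (nth mI l 44) (nth mI l 11)) 2) mI)
      (Nat.beq (pwM 112 mR mI (mu 112 mR (nth mI l 44) (nth mI l 157)) 2) mI) false) false) false) = true := by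
  decide +kernel

open Cfsg.Lib.MatB.F2 J4 in
theorem mb11 : MB Spor.J4 11 1 := by
  obtain ⟨l, h, hl⟩ := cx.slp in_acc eJ_ok
  obtain ⟨a, -, ha⟩ := hl 11
  obtain ⟨b, -, hb⟩ := hl 157
  obtain ⟨z, -, hz⟩ := hl 0
  obtain ⟨j, -, hj⟩ := hl 44
  unfold cubeB at h
  simp only [cnd_tt] at h
  obtain ⟨⟨h1, h2, h3, h4, h5, h6⟩, h7, h8, h9⟩ := h
  have i := card_all.2.1
  have p : ∀ {x : Spor.J4} {A e : ℕ}, MatB.F2.Rp 112 (rho x) A → Nat.beq (pwM 112 mR mI A e) mI = true → x ^ e = 1 :=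
    fun hx e => i (by rw [map_pow, map_one]; exact (cx.pow hx _).eq cx.one e)
  have m : ∀ {x y : Spor.J4} {A B : ℕ}, MatB.F2.Rp 112 (rho x) A → MatB.F2.Rp 112 (rho y) B →
      MatB.F2.Rp 112 (rho (x * y)) (mu 112 mR A B) := fun hx hy => by rw [map_mul]; exact cx.mul hx hy
  have jj : j⁻¹ = j := inv_eq_of_mul_eq_one_left (by rw [← pow_two, p hj h7])
  exact mb_heis (k := 5) (n := 65195770883604480) (a := a) (b := b) (z := z) (j := j) (by norm_num)
    (i ((m hb ha).eq (m (m ha hb) hz) h1)) (i ((m ha hz).eq (m hz ha) h2)) (i ((m hb hz).eq (m hz hb) h3)) (p ha h4) (p hb h5)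
    (fun e => by have := cx.ord hz (by norm_num) (by norm_num) h6; rw [e, map_one, orderOf_one] at this; omega)
    (by rw [jj, mul_assoc, ← pow_two, p (m hj ha) h8]) (by rw [jj, mul_assoc, ← pow_two, p (m hj hb) h9])
    (by rw [card_all.1]; norm_num) (by norm_num)

theorem mbp {w : List ℕ} {p n : ℕ} (h : orderOf (J4.rho (ev gam w)) = p) (e : 86775571046077562880 = p * n)
    (hc : p.Coprime n) : MB Spor.J4 p 1 :=
  mb_prime ((orderOf_injective J4.rho J4.card_all.2.1 _).symm.trans h) (J4.card_all.1.trans e) hc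

theorem mbn : MB Spor.J4 2415 1 :=
  lifts.mb (cop_index (m := 244823040) (n := 354442012672) (by rw [J4.card_all.1]) (by rw [J4.n_card]) (by norm_num))

theorem mult : HasCyclicSchurMultiplier Spor.J4 1 :=
  MB.mult_one (i := 21) (((((((mb2.mul mb11 (by norm_num) (one_dvd _) (one_dvd _)).mul mbn (by norm_num) (one_dvd _) (one_dvd _)).mul
    (mbp J4.o29 (n := 2992261070554398720) (by norm_num) (by norm_num)) (by norm_num) (one_dvd _) (one_dvd _)).mul
    (mbp J4.o31 (n := 2799211969228308480) (by norm_num) (by norm_num)) (by norm_num) (one_dvd _) (one_dvd _)).mul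
    (mbp J4.o37 (n := 2345285703948042240) (by norm_num) (by norm_num)) (by norm_num) (one_dvd _) (one_dvd _)).mul
    (mbp J4.o43 (n := 2018036535955292160) (by norm_num) (by norm_num)) (by norm_num) (one_dvd _) (one_dvd _)) :
      MB Spor.J4 (2 * 11 * 2415 * 29 * 31 * 37 * 43) 1) (by rw [J4.card_all.1]; decide +kernel)

end Cfsg.Lib.Comp.J4u
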